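import Cfsg.Agent.H533.Wf.Inner
import Cfsg.Agent.S0295
import Cfsg.Agent.S1685
import Cfsg.Agent.S1686
import Cfsg.Agent.S1696
import Cfsg.Agent.CpAutFiFive.Fi22
import Cfsg.Agent.H561.AAFi23
import Cfsg.Agent.H256.OddInner

/-!
# S3826, `p = 3`: the rows `Fi22` and `Fi23` (helper95)

A proper subgroup of index prime to `3` with trivial `O_3`: `PΩ7(3)` in `Fi22` and `PΩ8+(3):S3` in `Fi23`.
-/

set_option autoImplicit false

namespace Cfsg.Agent.H95.Wf

universe u v

open Subgroup Cfsg Cfsg.Agent.H533.T5 Cfsg.Agent.H533.Wf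

/-- A subgroup whose index is prime to `p` contains a Sylow `p`-subgroup. -/
theorem exists_sylow_le {G : Type u} [Group G] [Finite G] {p : ℕ} [hp : Fact p.Prime] {H : Subgroup G}
    (h : ¬ p ∣ H.index) : ∃ P : Sylow p G, (P : Subgroup G) ≤ H := by
  obtain ⟨P⟩ : Nonempty (Sylow p H) := inferInstance
  have hPp : IsPGroup p ((P : Subgroup H).map H.subtype) := P.isPGroup'.map _
  obtain ⟨Q, hQ⟩ := hPp.exists_le_sylow
  refine ⟨Q, ?_⟩
  have h1 : Nat.card ((P : Subgroup H).map H.subtype) = Nat.card (P : Subgroup H) :=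
    Subgroup.card_map_of_injective H.subtype_injective
  have h2 : Nat.card (P : Subgroup H) = Nat.card (Q : Subgroup G) := by
    have e1 : Nat.card (P : Subgroup H) = _ := P.card_eq_multiplicity
    have e2 : Nat.card (Q : Subgroup G) = _ := Q.card_eq_multiplicity
    rw [e1, e2, ← H.card_mul_index, Nat.factorization_mul Nat.card_pos.ne'
      Subgroup.index_ne_zero_of_finite, Finsupp.add_apply, Nat.factorization_eq_zero_of_not_dvd h,
      add_zero]
  have h3 : (P : Subgroup H).map H.subtype = (Q : Subgroup G) :=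
    Subgroup.eq_of_le_of_card_ge hQ (by rw [h1, h2])
  rw [← h3]
  exact Subgroup.map_subtype_le _

/-- a proper subgroup of index prime to `p` with trivial `O_p` -/
theorem irow_of_core {K : Type u} [Group K] [Finite K] {p : ℕ} [Fact p.Prime] {H : Subgroup K} (hH : H ≠ ⊤)
    (hi : ¬ p ∣ H.index) (hcore : Cfsg.pCore p H = ⊥) : IRow p K := by
  intro C D h
  obtain ⟨P, hP⟩ := exists_sylow_le hi
  exact h.false_of_sylow P fun c hc hcP d hd hdP => h.commute_of_core hH hcore hc hd (hP hcP) (hP hdP)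

/-- the same through an isomorphism -/
theorem irow_of_equiv {K : Type u} {X : Type v} [Group K] [Group X] [Finite K] (e : K ≃* X) {p : ℕ} [Fact p.Prime]
    {M : Subgroup X} (hM : M ≠ ⊤) (hi : ¬ p ∣ M.index) (hcore : Cfsg.pCore p M = ⊥) : IRow p K := by
  have h1 : (M.comap e.toMonoidHom).index = M.index :=
    Subgroup.index_comap_of_surjective M e.surjective
  have e' : ↥(M.comap e.toMonoidHom) ≃* ↥M := by
    refine (Subgroup.equivMapOfInjective (M.comap e.toMonoidHom) e.toMonoidHom e.injective).trans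
      (MulEquiv.subgroupCongr ?_)
    exact Subgroup.map_comap_eq_self_of_surjective e.surjective M
  refine irow_of_core (H := M.comap e.toMonoidHom) ?_ (by rw [h1]; exact hi) ?_
  · intro h
    apply hM
    rw [← Subgroup.index_eq_one, ← h1, h, Subgroup.index_top]
  · have h2 := Cfsg.Agent.Lib.Cores.map_equiv_pCore e' p
    rw [hcore] at h2
    exact (Subgroup.map_eq_bot_iff_of_injective _ e'.injective).1 h2

/-- a group whose order is divisible by two primes has no normal Sylow subgroup if it is simple -/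
theorem pCore_eq_bot_of_simple {X : Type u} [Group X] [Finite X] [IsSimpleGroup X] {p q : ℕ} [hp : Fact p.Prime]
    (hq : q.Prime) (hpq : p ≠ q) (h : q ∣ Nat.card X) : Cfsg.pCore p X = ⊥ := by
  have hn : (Cfsg.pCore p X).Normal := Cfsg.Agent.Lib.Cores.pCore_normal p
  rcases hn.eq_bot_or_eq_top with h1 | h1
  · exact h1
  · exfalso
    have h2 : IsPGroup p (Cfsg.pCore p X) := Cfsg.Agent.Lib.Cores.pCore_isPGroup p
    obtain ⟨k, hk⟩ := IsPGroup.iff_card.1 h2
    rw [h1, Subgroup.card_top] at hk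
    rw [hk] at h
    exact hpq ((Nat.prime_dvd_prime_iff_eq hq hp.out).1 (hq.dvd_of_dvd_pow h)).symm

/-- `O_p` is contained in the solvable radical -/
theorem pCore_eq_bot_of_radical {X : Type u} [Group X] [Finite X] {p : ℕ} [hp : Fact p.Prime]
    (h : solvableRadical X = ⊥) : Cfsg.pCore p X = ⊥ := by
  rw [eq_bot_iff, ← h]
  have h1 : IsPGroup p (Cfsg.pCore p X) := Cfsg.Agent.Lib.Cores.pCore_isPGroup p
  have hnil : Group.IsNilpotent (Cfsg.pCore p X) := h1.isNilpotent
  have hsol : Group.IsSolvable (Cfsg.pCore p X) := inferInstance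
  exact le_sSup ⟨Cfsg.Agent.Lib.Cores.pCore_normal p, hsol⟩

/-- automorphisms of order `3` are inner -/
theorem mem_of_oi {K : Type u} [Group K] (h : Cfsg.Agent.H256.OddInner.OI K) (a : MulAut K) (ha : orderOf a = 3) :
    a ∈ (MulAut.conj : K →* MulAut K).range := by
  obtain ⟨x, hx⟩ := h a (by rw [ha]; decide)
  exact ⟨x, hx.symm⟩

theorem fi22 (K : Type u) [Group K] [Finite K] [IsSimpleGroup K] (h : Spor.IsoFi22 K) : ARow 3 K := by
  have hp3 : Fact (Nat.Prime 3) := ⟨Nat.prime_three⟩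
  refine ARow.of_inner (mem_of_oi (Cfsg.Agent.H256.OddInner.fi22 h)) ?_
  obtain ⟨e⟩ := h
  have hfin : Finite Spor.Fi22 := Finite.of_equiv K e.toEquiv
  have hcard : Nat.card Spor.Fi22 = 64561751654400 := Cfsg.Agent.S1696.result.2
  have hidx := Cfsg.Agent.S1685.result
  obtain ⟨f⟩ := Cfsg.Agent.S1686.result
  set M : Subgroup Spor.Fi22 := (((Subgroup.closure ({Cfsg.Spor.Fi22.b, Cfsg.Spor.Fi22.c, Cfsg.Spor.Fi22.d,
    Cfsg.Spor.Fi22.e, Cfsg.Spor.Fi22.f, Cfsg.Spor.Fi22.g, Cfsg.Spor.Fi22.h, Cfsg.Spor.Fi22.i} :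
    Set (FreeGroup Cfsg.Spor.Fi22.Gen))).map (PresentedGroup.mk (Cfsg.Spor.coxRelators Cfsg.Spor.Fi22.edges ∪
    {r | r ∈ Cfsg.Spor.Fi22.extra})))) with hM
  have hO : IsSimpleGroup (Cfsg.POmega (ZMod 3) (Cfsg.quadFormOdd 3 (ZMod 3))) :=
    Cfsg.Agent.S0295.result (by rw [ZMod.card]; decide) 3 le_rfl
  have hsM : IsSimpleGroup M := f.isSimpleGroup
  have hcM : Nat.card M = 4585351680 := by
    have h1 := M.card_mul_index
    rw [hidx, hcard] at h1
    omega
  refine irow_of_equiv e (M := M) ?_ (by rw [hidx]; norm_num)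
    (pCore_eq_bot_of_simple Nat.prime_two (by norm_num) (by rw [hcM]; exact ⟨2292675840, by norm_num⟩))
  intro h1
  rw [h1, index_top] at hidx
  norm_num at hidx

theorem fi23 (K : Type u) [Group K] [Finite K] [IsSimpleGroup K] (h : Spor.IsoFi23 K) : ARow 3 K := by
  have hp3 : Fact (Nat.Prime 3) := ⟨Nat.prime_three⟩
  refine ARow.of_inner (mem_of_oi (Cfsg.Agent.H256.OddInner.fi23 h)) ?_
  obtain ⟨e⟩ := h
  have hfin : Finite Spor.Fi23 := Finite.of_equiv K e.toEquiv
  obtain ⟨M, hidx, hrad⟩ := Cfsg.Agent.H561.AAFi23.exists_sub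
  refine irow_of_equiv e (M := M) ?_ (by rw [hidx]; norm_num) (pCore_eq_bot_of_radical hrad)
  intro h1
  rw [h1, index_top] at hidx
  norm_num at hidx

theorem wf_fi22 (K : Type v) [Group K] [Finite K] [IsSimpleGroup K] (h : Spor.IsoFi22 K) : WfRow.{u, v} 3 K :=
  WfRow.of_arow (fi22 K h)

theorem wf_fi23 (K : Type v) [Group K] [Finite K] [IsSimpleGroup K] (h : Spor.IsoFi23 K) : WfRow.{u, v} 3 K :=
  WfRow.of_arow (fi23 K h)

end Cfsg.Agent.H95.Wf
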